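import Cfsg.Agent.H53.HC.Asm

/-!
# The induced characters of a group with a root group datum, with the inducing character (S4555, S4559, helper928)

* `Ind R J ψ ψ'` : `ψ` an irreducible character of `L_J` without fixed vectors of the radicals, `ψ'` its inflation to `P_J`,
  `ψ' ^ Y` irreducible;
* `exists_ind` : from a cuspidal character of `M_J` not fixed by the elements permuting the simple roots of `J`;
* `Ind.value` : `ψ' ^ Y` vanishes at `x` if `ψ` vanishes at the `L_J`-parts of the conjugates of `x` in `P_J`;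
* `exists_ind_one` : one component of type `A_2`; `exists_ind_none` : no element permutes the simple roots of `J`.
-/

set_option autoImplicit false
set_option linter.unusedSectionVars false

open scoped ComplexConjugate Pointwise

namespace Cfsg.Agent.H928.Van

open Cfsg Cfsg.Agent.Characters CoxeterSystem Cfsg.Agent.ChevalleyStructure.CoxeterGeom Cfsg.Agent.Tits.Roots
  Cfsg.Agent.Tits.Core Cfsg.Agent.Tits.Exchange Cfsg.Agent.Nodes.Reps Cfsg.Agent.Nodes.BNOf Cfsg.Agent.Nodes.StabComb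
  Cfsg.Agent.Nodes.Bruhat Cfsg.Agent.Nodes.OppDec Cfsg.Agent.Nodes.LeviDec Cfsg.Agent.H53.HC
  Cfsg.Agent.OddOrderCharacters.IndRes

universe u

variable {I : Type*} {W : Type*} {Y : Type u} [Fintype I] [DecidableEq I] [Group W] [Group Y] {M : CoxeterMatrix I}
  {cs : CoxeterSystem M W} {A : I → I → ℤ} {h : IsCartan M A} {p : ℕ} {T : Subgroup Y} {n : I → Y}
  {X : (I → ℤ) → Subgroup Y}

/-- an irreducible character induced from `P_J`, together with the inducing character -/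
structure Ind [Fintype Y] (cs : CoxeterSystem M W) (h : IsCartan M A) (T : Subgroup Y) (X : (I → ℤ) → Subgroup Y) (J : Set I)
    (ψ : ↥(LJ cs h T X J) → ℂ) (ψ' : ↥(PJ cs h T X J) → ℂ) : Prop where
  irr : IsIrrCharacter _ ψ
  eq : ∀ (l : Y) (hl : l ∈ LJ cs h T X J) (v : Y) (_ : v ∈ VJ cs h X J) (hlv : l * v ∈ PJ cs h T X J),
    ψ' ⟨l * v, hlv⟩ = ψ ⟨l, hl⟩
  van : ∀ i ∈ J, ∀ [Fintype (rad cs h X J i)], ∑ u : rad cs h X J i, ψ ⟨u, rad_le_LJ J i u.2⟩ = 0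
  ind : IsIrrCharacter Y (indFun (PJ cs h T X J) ψ')

theorem Ind.value [Fintype Y] {J : Set I} {ψ : ↥(LJ cs h T X J) → ℂ} {ψ' : ↥(PJ cs h T X J) → ℂ}
    (hI : Ind cs h T X J ψ ψ') (hdec : ∀ y ∈ PJ cs h T X J, ∃ l ∈ LJ cs h T X J, ∃ v ∈ VJ cs h X J, y = l * v) {x : Y}
    (hx : ∀ (g l v : Y) (hl : l ∈ LJ cs h T X J), v ∈ VJ cs h X J → g⁻¹ * x * g = l * v → ψ ⟨l, hl⟩ = 0) :
    indFun (PJ cs h T X J) ψ' x = 0 := by
  change (Nat.card (PJ cs h T X J) : ℂ)⁻¹ * ∑ g : Y, extendByZero (PJ cs h T X J) ψ' (g⁻¹ * x * g) = 0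
  rw [Finset.sum_eq_zero, mul_zero]
  intro g _
  unfold extendByZero
  by_cases hg : g⁻¹ * x * g ∈ PJ cs h T X J
  · obtain ⟨l, hl, v, hv, e⟩ := hdec _ hg
    have h1 : Function.extend Subtype.val ψ' (fun _ => (0 : ℂ)) ((⟨g⁻¹ * x * g, hg⟩ : PJ cs h T X J) : Y) =
        ψ' ⟨g⁻¹ * x * g, hg⟩ := Subtype.val_injective.extend_apply _ _ _
    refine h1.trans ?_
    have h2 : l * v ∈ PJ cs h T X J := e ▸ hg
    have h3 : (⟨g⁻¹ * x * g, hg⟩ : PJ cs h T X J) = ⟨l * v, h2⟩ := Subtype.ext e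
    rw [h3, hI.eq l hl v hv h2]
    exact hx g l v hl hv e
  · apply Function.extend_apply'
    rintro ⟨y, hy⟩
    exact hg (hy ▸ y.2)

variable (R : RGD cs h p T n X)

include R

theorem dec [Finite W] (J : Set I) : ∀ y ∈ PJ cs h T X J, ∃ l ∈ LJ cs h T X J, ∃ v ∈ VJ cs h X J, y = l * v := by
  intro y hy
  exact (mem_PJ R).1 hy

/-- **Irreducible characters from the cuspidal characters of `M_J`**, with the inducing character. -/
theorem exists_ind [Finite W] [Fintype Y] (hG : GG cs h T X = ⊤) (J : Set I)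
    {θ : ↥(MJ cs h X J) → ℂ} (hθ : IsIrrCharacter _ θ)
    (hc : ∀ i ∈ J, ∀ [Fintype (rad cs h X J i)], ∑ u : rad cs h X J i, θ ⟨u, rad_le_MJ J i u.2⟩ = 0)
    (hs : ∀ w g (hg : Rp cs R.nsys w g), w ∉ WJ cs J → ∀ hw : Perm cs h J w,
      ∃ (m : Y) (hm : m ∈ MJ cs h X J), θ ⟨g⁻¹ * m * g, conj_mem_MJ R hg hw hm⟩ ≠ θ ⟨m, hm⟩) :
    ∃ (ψ : ↥(LJ cs h T X J) → ℂ) (ψ' : ↥(PJ cs h T X J) → ℂ), Ind cs h T X J ψ ψ' := by
  classical
  obtain ⟨ψ, hψ, ⟨k, hk, hk1⟩, c, s, hres, hsφ⟩ := exists_over (MJ_le_LJ (T := T) J) (LJ_le_normalizer_MJ R J) hθ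
  obtain ⟨π, hπL, hπV⟩ := exists_projL R J
  have hsur : Function.Surjective π := fun l => ⟨⟨(l : Y), LJ_le_PJ l.2⟩, hπL l l.2⟩
  obtain ⟨ψ', hψ'⟩ : ∃ ψ' : ↥(PJ cs h T X J) → ℂ, ψ' = ψ ∘ π := ⟨_, rfl⟩
  have hψirr : IsIrrCharacter _ ψ' := by rw [hψ']; exact Core.isIrr_comp π hsur hψ
  have hψL : ∀ (l : Y) (hl : l ∈ LJ cs h T X J), ψ' ⟨l, LJ_le_PJ hl⟩ = ψ ⟨l, hl⟩ := by
    intro l hl
    rw [hψ', Function.comp_apply, hπL]
  have hψV : ∀ (v : Y) (hv : v ∈ VJ cs h X J), ψ' ⟨v, VJ_le_PJ hv⟩ = ψ' 1 := by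
    intro v hv
    rw [hψ', Function.comp_apply, hπV v hv, Function.comp_apply, map_one]
  have hres' : ∀ (m : Y) (hm : m ∈ MJ cs h X J), ψ' ⟨m, LJ_le_PJ (MJ_le_LJ J hm)⟩ = c * ∑ φ ∈ s, φ ⟨m, hm⟩ := by
    intro m hm
    rw [hψL]
    exact hres ⟨m, hm⟩
  -- the conjugates are conjugates under the torus
  have hsT : ∀ φ ∈ s, ∃ t, ∃ ht : t ∈ T, φ = θ ∘ conjME (MJ cs h X J) (T_le_normalizer_MJ R J ht) := by
    intro φ hφ
    obtain ⟨g, hg, hgφ⟩ := hsφ φ hφ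
    obtain ⟨m, hm, t, ht, rfl⟩ := (mem_LJ_iff_mul' R J).1 hg
    refine ⟨t, ht, ?_⟩
    funext x
    obtain ⟨hx', e⟩ := hgφ x x.2
    rw [e, Function.comp_apply]
    have h1 := Core.isIrr_isClassFunction hθ (conjME (MJ cs h X J) (T_le_normalizer_MJ R J ht) x) ⟨m, hm⟩
    rw [← h1]
    congr 1
    apply Subtype.ext
    simp only [conjME_coe, Subgroup.coe_mul, InvMemClass.coe_inv]
    group
  have hvan : ∀ i ∈ J, ∀ [Fintype (rad cs h X J i)], ∑ u : rad cs h X J i, ψ' ⟨u, rad_le_PJ J i u.2⟩ = 0 := by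
    intro i hi hf
    have h1 : ∀ u : rad cs h X J i, ψ' ⟨u, rad_le_PJ J i u.2⟩ = c * ∑ φ ∈ s, φ ⟨u, rad_le_MJ J i u.2⟩ :=
      fun u => hres' u (rad_le_MJ J i u.2)
    rw [Finset.sum_congr rfl fun u _ => h1 u, ← Finset.mul_sum, Finset.sum_comm]
    rw [Finset.sum_eq_zero, mul_zero]
    intro φ hφ
    obtain ⟨t, ht, rfl⟩ := hsT φ hφ
    rw [← hc i hi]
    exact Fintype.sum_equiv (conjME (rad cs h X J i) (T_le_normalizer_rad R J i ht)).toEquiv _ _ fun u => rfl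
  refine ⟨ψ, ψ', hψ, ?_, ?_, ?_⟩
  · intro l hl v hv hlv
    have h1 : (⟨l * v, hlv⟩ : PJ cs h T X J) = ⟨l, LJ_le_PJ hl⟩ * ⟨v, VJ_le_PJ hv⟩ := rfl
    rw [hψ', Function.comp_apply, h1, map_mul, hπV v hv, mul_one, hπL]
  · intro i hi hf
    rw [← hvan i hi]
    exact Finset.sum_congr rfl fun u _ => (hψL _ (rad_le_LJ J i u.2)).symm
  · refine isIrr_indFun_rgd R hG J hψirr hψV hvan ?_
    · intro w g hg hw hp
      have hgn := inv_mem (rp_mem_normalizer_MJ R hg hp)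
      refine ⟨MJ cs h X J, le_trans (MJ_le_LJ J) LJ_le_PJ,
        fun l hl => LJ_le_PJ (MJ_le_LJ J (conj_mem_MJ R hg hp hl)), ?_⟩
      intro hf
      have h1 : ∀ l : MJ cs h X J, ψ' ⟨l, LJ_le_PJ (MJ_le_LJ J l.2)⟩ *
          conj (ψ' ⟨g⁻¹ * l * g, LJ_le_PJ (MJ_le_LJ J (conj_mem_MJ R hg hp l.2))⟩) =
          ∑ φ ∈ s, ∑ φ' ∈ s, (c * conj c) * (φ l * conj ((φ' ∘ conjME (MJ cs h X J) hgn) l)) := by
        intro l
        have e2 : (⟨g⁻¹ * l * g, conj_mem_MJ R hg hp l.2⟩ : MJ cs h X J) = conjME (MJ cs h X J) hgn l := by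
          apply Subtype.ext
          rw [conjME_coe, inv_inv]
        rw [hres' l l.2, hres' _ (conj_mem_MJ R hg hp l.2), e2, map_mul, map_sum]
        simp only [← Finset.mul_sum, Function.comp_apply]
        rw [← Finset.sum_mul]
        ring
      rw [Finset.sum_congr rfl fun l _ => h1 l, Finset.sum_comm]
      refine Finset.sum_eq_zero fun φ hφ => ?_
      rw [Finset.sum_comm]
      refine Finset.sum_eq_zero fun φ' hφ' => ?_
      rw [← Finset.mul_sum]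
      obtain ⟨t, ht, rfl⟩ := hsT φ hφ
      obtain ⟨t', ht', rfl⟩ := hsT φ' hφ'
      have hne : θ ∘ conjME (MJ cs h X J) (T_le_normalizer_MJ R J ht) ≠
          (θ ∘ conjME (MJ cs h X J) (T_le_normalizer_MJ R J ht')) ∘ conjME (MJ cs h X J) hgn := by
        intro he
        have hg' : Rp cs R.nsys w (t * g * t'⁻¹) := by
          have h2 := ((rp_of_mem (cs := cs) (hN := R.nsys) ht).mul hg).mul
            (rp_of_mem (cs := cs) (hN := R.nsys) (inv_mem ht'))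
          rwa [one_mul, mul_one] at h2
        obtain ⟨m, hm, hne⟩ := hs w _ hg' hw hp
        apply hne
        have h3 := congrFun he (conjME (MJ cs h X J) (inv_mem (T_le_normalizer_MJ R J ht)) ⟨m, hm⟩)
        simp only [Function.comp_apply] at h3
        refine Eq.trans ?_ (h3.symm.trans ?_)
        · congr 1
          apply Subtype.ext
          simp only [conjME_coe]
          group
        · congr 1
          apply Subtype.ext
          simp only [conjME_coe]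
          group
      have hi1 : IsIrrCharacter _ (θ ∘ conjME (MJ cs h X J) (T_le_normalizer_MJ R J ht)) :=
        Core.isIrr_comp (conjME _ (T_le_normalizer_MJ R J ht)).toMonoidHom (MulEquiv.surjective _) hθ
      have hi2 : IsIrrCharacter _ (θ ∘ conjME (MJ cs h X J) (T_le_normalizer_MJ R J ht')) :=
        Core.isIrr_comp (conjME _ (T_le_normalizer_MJ R J ht')).toMonoidHom (MulEquiv.surjective _) hθ
      have hi3 : IsIrrCharacter _ ((θ ∘ conjME (MJ cs h X J) (T_le_normalizer_MJ R J ht')) ∘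
          conjME (MJ cs h X J) hgn) :=
        Core.isIrr_comp (conjME _ hgn).toMonoidHom (MulEquiv.surjective _) hi2
      have h4 := Core.classInner_irr_ne hi1 hi3 hne
      rw [Core.classInner_def, mul_eq_zero] at h4
      rcases h4 with h4 | h4
      · exact absurd (inv_eq_zero.1 h4) Core.card_ne_zero_complex
      · rw [mul_eq_zero]
        exact Or.inr h4

/-- **No element outside `W_J` permutes the simple roots of `J`.** -/
theorem exists_ind_none [Finite W] [Fintype Y] (hG : GG cs h T X = ⊤) {J : Set I} {θ : ↥(MJ cs h X J) → ℂ}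
    (hθ : Cusp cs h X J θ) (hno : ∀ w, Perm cs h J w → w ∈ WJ cs J) :
    ∃ (ψ : ↥(LJ cs h T X J) → ℂ) (ψ' : ↥(PJ cs h T X J) → ℂ), Ind cs h T X J ψ ψ' :=
  exists_ind R hG J hθ.irr hθ.van fun w _ _ hw hp => absurd (hno w hp) hw

/-- **One component of type `A_2`.** -/
theorem exists_ind_one [Finite W] [Fintype Y] (hG : GG cs h T X = ⊤) {J K K' : Set I} {j : I}
    (hJ : ∀ i, i ∈ J ↔ i ≠ j) (hJK : J = K ∪ K') (ho : Orth A K K') {k₀ k₁ : I} (hK : K = {k₀, k₁})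
    (hk : IsoPair A J k₀ k₁) (hk1 : A k₁ j = 0) (h3 : ¬ (3 : ℤ) ∣ A k₀ j)
    (hun : ∀ a b, IsoPair A J a b → (a = k₀ ∧ b = k₁) ∨ (a = k₁ ∧ b = k₀))
    {θ : ↥(MJ cs h X K) → ℂ} (hθ : Cusp cs h X K θ) (hns : NonSwap cs h X K k₀ k₁ θ)
    {θ' : ↥(MJ cs h X K') → ℂ} (hθ' : Cusp cs h X K' θ') :
    ∃ (ψ : ↥(LJ cs h T X J) → ℂ) (ψ' : ↥(PJ cs h T X J) → ℂ), Ind cs h T X J ψ ψ' := by
  subst hJK
  obtain ⟨ψ, hψ, hval⟩ := hθ.exists_prod R ho hθ'
  refine exists_ind R hG (K ∪ K') hψ.irr hψ.van ?_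
  intro w g hg hw hp
  obtain ⟨h0, h1⟩ := swap_of_iso hJ hk hk1 h3 hun hp hw
  exact not_stable_swap R rfl ho hK hns hθ'.irr hval hg hp h0 h1

end Cfsg.Agent.H928.Van
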